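import Mathlib
import Groth.Agent.EtaleAlgebra.HensDomain

/-!
# A henselian extension of a discrete valuation ring with perfect residue field

Inside an algebraic closure of the fraction field, a maximal directed union of finite free
subalgebras of prime power rank, unramified with purely inseparable residue extension, has perfect
residue field.
-/

set_option autoImplicit false

universe u

open IsLocalRing Polynomial

noncomputable section

namespace Groth.PerfDVR

variable {R : Type u} [CommRing R] {L : Type u} [Field L] [Algebra R L]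

/-- The subalgebra generated by a subalgebra and one more element. -/
def extend (U : Subalgebra R L) (x : L) : Subalgebra R L :=
  (Algebra.adjoin U ({x} : Set L)).restrictScalars R

theorem self_mem_extend (U : Subalgebra R L) (x : L) : x ∈ extend U x := by
  rw [extend, Subalgebra.mem_restrictScalars]
  exact Algebra.self_mem_adjoin_singleton U x

theorem le_extend (U : Subalgebra R L) (x : L) : U ≤ extend U x :=
  fun c hc => (Algebra.adjoin U ({x} : Set L)).algebraMap_mem ⟨c, hc⟩

theorem exists_poly_of_mem_extend {U : Subalgebra R L} {x ξ : L} (h : ξ ∈ extend U x) :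
    ∃ g : U[X], aeval x g = ξ := by
  have h' : ξ ∈ Algebra.adjoin U ({x} : Set L) := h
  rw [Algebra.adjoin_singleton_eq_range_aeval] at h'
  exact h'

theorem aeval_mem_extend (U : Subalgebra R L) (x : L) (g : U[X]) : aeval x g ∈ extend U x := by
  change aeval x g ∈ Algebra.adjoin U ({x} : Set L)
  rw [Algebra.adjoin_singleton_eq_range_aeval]
  exact ⟨g, rfl⟩

/-- Reduction to degree less than `p` along `x ^ p = y`. -/
theorem exists_coeff_of_mem_extend {U : Subalgebra R L} {x ξ : L} {p : ℕ} (hp : 0 < p) {y : U}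
    (hx : x ^ p = y) (h : ξ ∈ extend U x) : ∃ c : Fin p → U, ξ = ∑ i, (c i : L) * x ^ (i : ℕ) := by
  obtain ⟨g, rfl⟩ := exists_poly_of_mem_extend h
  set f : U[X] := X ^ p - C y with hf
  have hmonic : f.Monic := monic_X_pow_sub_C y hp.ne'
  have hfx : aeval x f = 0 := by
    rw [hf, map_sub, map_pow, aeval_X, aeval_C, hx]
    exact sub_self _
  have hdeg : (g %ₘ f).natDegree < p := by
    have := natDegree_modByMonic_lt g hmonic (fun h1 => by
      have := congrArg natDegree h1
      rw [hf, natDegree_X_pow_sub_C, natDegree_one] at this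
      omega)
    rwa [hf, natDegree_X_pow_sub_C, ← hf] at this
  refine ⟨fun i => (g %ₘ f).coeff i, ?_⟩
  conv_lhs => rw [← modByMonic_add_div g f]
  rw [map_add, map_mul, hfx, zero_mul, add_zero, aeval_eq_sum_range' hdeg]
  rw [Finset.sum_range]
  exact Finset.sum_congr rfl fun i _ => Algebra.smul_def _ _

variable (R L) in
/-- The subalgebras considered. -/
structure Good (q : ℕ) (ϖ : R) (S : Subalgebra R L) : Prop where
  finite : ∀ s : Finset L, (s : Set L) ⊆ S → ∃ T : Subalgebra R L, T ≤ S ∧ (s : Set L) ⊆ T ∧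
    Module.Finite R T ∧ Module.Free R T ∧ ∃ m : ℕ, Module.finrank R T = q ^ m
  dvd : ∀ c : S, ¬ IsUnit c → algebraMap R S ϖ ∣ c
  radicial : ∀ c : S, ∃ (m : ℕ) (z : R), algebraMap R S ϖ ∣ algebraMap R S z - c ^ q ^ m

variable {q : ℕ} {ϖ : R}

theorem Good.isIntegral {S : Subalgebra R L} (hS : Good R L q ϖ S) : Algebra.IsIntegral R S := by
  classical
  refine ⟨fun c => ?_⟩
  obtain ⟨T, hTS, hcT, hfin, -⟩ := hS.finite {(c : L)} (by simp)
  have h1 : IsIntegral R (⟨c, hcT (by simp)⟩ : T) := Algebra.IsIntegral.isIntegral _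
  have h2 : IsIntegral R (c : L) := h1.map T.val
  exact (isIntegral_algHom_iff S.val Subtype.val_injective).1 h2

variable [IsDomain R] [IsDiscreteValuationRing R] [HenselianLocalRing R]
  [FaithfulSMul R L]

theorem Good.isLocalRing {S : Subalgebra R L} (hS : Good R L q ϖ S) : IsLocalRing S :=
  have := hS.isIntegral
  Groth.EtaleAlgebra.isLocalRing_of_isIntegral_domain R S

theorem Good.not_isUnit {S : Subalgebra R L} (hS : Good R L q ϖ S) (hϖ : Irreducible ϖ) :
    ¬ IsUnit (algebraMap R S ϖ) := by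
  have := hS.isIntegral
  have := hS.isLocalRing
  have := Groth.EtaleAlgebra.isLocalHom_of_isIntegral R S
  exact fun h => hϖ.not_isUnit (isUnit_of_map_unit _ _ h)

theorem Good.eq_pow_mul {S : Subalgebra R L} (hS : Good R L q ϖ S) (hϖ : Irreducible ϖ) {c : S}
    (hc : c ≠ 0) : ∃ (n : ℕ) (v : Sˣ), c = algebraMap R S ϖ ^ n * v := by
  have := hS.isIntegral
  obtain ⟨p, hp, hroot⟩ := Algebra.IsIntegral.isIntegral (R := R) c
  have hinj : Function.Injective (algebraMap R S) := FaithfulSMul.algebraMap_injective R S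
  -- a non-zero element of `R` divisible by `c`
  obtain ⟨a, ha, hca⟩ : ∃ a : R, a ≠ 0 ∧ c ∣ algebraMap R S a := by
    have hp0 : p ≠ 0 := hp.ne_zero
    obtain ⟨e, he, hX⟩ := exists_eq_pow_rootMultiplicity_mul_and_not_dvd p hp0 0
    rw [map_zero, sub_zero] at he hX
    have he0 : e.coeff 0 ≠ 0 := fun h0 => hX (X_dvd_iff.2 h0)
    refine ⟨e.coeff 0, he0, ?_⟩
    have h1 : aeval c e = 0 := by
      have h2 : aeval c p = 0 := hroot
      rw [he, map_mul, map_pow, aeval_X] at h2
      exact (mul_eq_zero.1 h2).resolve_left (pow_ne_zero _ hc)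
    rw [← X_mul_divX_add e, map_add, map_mul, aeval_X, aeval_C] at h1
    exact ⟨-aeval c e.divX, by rw [mul_neg, eq_neg_iff_add_eq_zero, add_comm, h1]⟩
  obtain ⟨n, v, rfl⟩ := IsDiscreteValuationRing.eq_unit_mul_pow_irreducible ha hϖ
  have hcn : c ∣ algebraMap R S ϖ ^ n := by
    rw [map_mul, map_pow] at hca
    exact (IsUnit.dvd_mul_left (v.isUnit.map (algebraMap R S))).1 hca
  clear ha hca hroot hp
  have hϖ0 : algebraMap R S ϖ ≠ 0 := fun h => hϖ.ne_zero (hinj (h.trans (map_zero _).symm))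
  induction n generalizing c with
  | zero =>
    rw [pow_zero] at hcn
    obtain ⟨v, rfl⟩ := isUnit_of_dvd_one hcn
    exact ⟨0, v, by rw [pow_zero, one_mul]⟩
  | succ n ih =>
    by_cases hu : IsUnit c
    · obtain ⟨v, rfl⟩ := hu
      exact ⟨0, v, by rw [pow_zero, one_mul]⟩
    obtain ⟨c', rfl⟩ := hS.dvd c hu
    obtain ⟨m, w, rfl⟩ := ih (right_ne_zero_of_mul hc)
      ((mul_dvd_mul_iff_left hϖ0).1 (by rwa [← pow_succ']))
    exact ⟨m + 1, w, by rw [pow_succ, mul_comm _ (algebraMap R S ϖ), mul_assoc]⟩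

theorem good_bot : Good R L q ϖ ⊥ ↔ (∀ a : R, ¬ IsUnit a → ϖ ∣ a) := by
  have hbij : Function.Bijective (algebraMap R (⊥ : Subalgebra R L)) :=
    ⟨FaithfulSMul.algebraMap_injective R _, fun c => by
      obtain ⟨a, ha⟩ := Algebra.mem_bot.1 c.2
      exact ⟨a, Subtype.ext ha⟩⟩
  let e : R ≃ₗ[R] (⊥ : Subalgebra R L) := LinearEquiv.ofBijective (Algebra.linearMap R _) hbij
  constructor
  · intro h a ha
    have := h.dvd (algebraMap R _ a) fun hu => ha (by
      obtain ⟨b, hb⟩ := isUnit_iff_exists_inv.1 hu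
      obtain ⟨b, rfl⟩ := hbij.2 b
      exact isUnit_iff_exists_inv.2 ⟨b, hbij.1 (by rw [map_mul, hb, map_one])⟩)
    obtain ⟨c, hc⟩ := this
    obtain ⟨c, rfl⟩ := hbij.2 c
    exact ⟨c, hbij.1 (by rw [map_mul, hc])⟩
  · intro h
    refine ⟨fun s hs => ⟨⊥, le_rfl, hs, Module.Finite.equiv e, Module.Free.of_equiv e, 0, ?_⟩,
      fun c hc => ?_, fun c => ?_⟩
    · rw [← e.finrank_eq, Module.finrank_self, pow_zero]
    · obtain ⟨a, rfl⟩ := hbij.2 c
      exact map_dvd _ (h a fun ha => hc (ha.map _))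
    · obtain ⟨a, rfl⟩ := hbij.2 c
      exact ⟨0, a, by rw [pow_zero, pow_one, sub_self]; exact dvd_zero _⟩

theorem good_sSup {𝒞 : Set (Subalgebra R L)} (hne : 𝒞.Nonempty) (hch : IsChain (· ≤ ·) 𝒞)
    (hG : ∀ S ∈ 𝒞, Good R L q ϖ S) : ∃ U, Good R L q ϖ U ∧ ∀ S ∈ 𝒞, S ≤ U := by
  classical
  haveI : Nonempty 𝒞 := hne.to_subtype
  have hdir : Directed (· ≤ ·) fun S : 𝒞 => (S : Subalgebra R L) := hch.directedOn.directed_val
  refine ⟨⨆ S : 𝒞, (S : Subalgebra R L), ⟨fun s hs => ?_, fun c hc => ?_, fun c => ?_⟩,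
    fun S hS => le_iSup (fun S : 𝒞 => (S : Subalgebra R L)) ⟨S, hS⟩⟩
  · obtain ⟨S, hsS⟩ : ∃ S : 𝒞, (s : Set L) ⊆ (S : Subalgebra R L) := by
      rw [Subalgebra.coe_iSup_of_directed hdir] at hs
      exact DirectedOn.exists_mem_subset_of_finset_subset_biUnion (s := s) (c := Set.univ)
        Set.univ_nonempty (fun a _ b _ => (hdir a b).imp fun z hz => ⟨Set.mem_univ _, hz⟩)
        (by simpa using hs) |>.imp fun S hS => hS.2
    obtain ⟨T, hTS, hT⟩ := (hG S S.2).finite s hsS
    exact ⟨T, hTS.trans (le_iSup (fun S : 𝒞 => (S : Subalgebra R L)) S), hT⟩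
  · have hcm := c.2
    rw [← SetLike.mem_coe, Subalgebra.coe_iSup_of_directed hdir, Set.mem_iUnion] at hcm
    obtain ⟨S, hcS⟩ := hcm
    let ι := Subalgebra.inclusion (le_iSup (fun S : 𝒞 => (S : Subalgebra R L)) S)
    have hc' : c = ι ⟨c, hcS⟩ := rfl
    rw [hc', ← AlgHom.commutes ι]
    exact map_dvd ι ((hG S S.2).dvd _ fun hu => hc (hc' ▸ hu.map ι))
  · have hcm := c.2
    rw [← SetLike.mem_coe, Subalgebra.coe_iSup_of_directed hdir, Set.mem_iUnion] at hcm
    obtain ⟨S, hcS⟩ := hcm
    let ι := Subalgebra.inclusion (le_iSup (fun S : 𝒞 => (S : Subalgebra R L)) S)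
    obtain ⟨m, z, hz⟩ := (hG S S.2).radicial ⟨c, hcS⟩
    refine ⟨m, z, ?_⟩
    have := map_dvd ι hz
    rwa [map_sub, map_pow, AlgHom.commutes, AlgHom.commutes] at this

section Step

variable {S : Subalgebra R L} {p : ℕ} {x : L} {y : S}

theorem isUnit_or_dvd (hS : Good R L q ϖ S) (hϖ : Irreducible ϖ) [hp : Fact p.Prime]
    (hy : ∀ z : S, ¬ algebraMap R S ϖ ∣ z ^ p - y) (hx : x ^ p = y) (g : S[X]) :
    (∃ h : S[X], aeval x g = algebraMap R L ϖ * aeval x h ∧
      C (algebraMap R S ϖ) ∣ g %ₘ (X ^ p - C y)) ∨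
    IsUnit (⟨aeval x g, aeval_mem_extend S x g⟩ : extend S x) := by
  classical
  have := hS.isLocalRing
  have := hS.isIntegral
  set π := algebraMap R S ϖ with hπ
  have hmax : maximalIdeal S = Ideal.span {π} := le_antisymm
    (fun c hc => Ideal.mem_span_singleton.2 (hS.dvd c hc))
    ((Ideal.span_singleton_le_iff_mem _).2 (hS.not_isUnit hϖ))
  set f : S[X] := X ^ p - C y with hf
  have hmonic : f.Monic := monic_X_pow_sub_C y hp.out.ne_zero
  have hfx : aeval x f = 0 := by
    rw [hf, map_sub, map_pow, aeval_X, aeval_C, hx]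
    exact sub_self _
  have hirr : Irreducible (f.map (residue S)) := by
    rw [hf, Polynomial.map_sub, Polynomial.map_pow, map_X, map_C]
    refine X_pow_sub_C_irreducible_of_prime hp.out fun b hb => ?_
    obtain ⟨b, rfl⟩ := residue_surjective b
    refine hy b (Ideal.mem_span_singleton.1 ?_)
    rw [← hmax, ← residue_eq_zero_iff, map_sub, map_pow, hb, sub_self]
  have hCdvd : ∀ e : S[X], e.map (residue S) = 0 → C π ∣ e := fun e he => by
    rw [C_dvd_iff_dvd_coeff]
    intro i
    refine Ideal.mem_span_singleton.1 ?_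
    rw [← hmax, ← residue_eq_zero_iff, ← Polynomial.coeff_map, he, coeff_zero]
  by_cases hdvd : f.map (residue S) ∣ g.map (residue S)
  · left
    have hr : (g %ₘ f).map (residue S) = 0 := by
      rw [map_modByMonic _ hmonic]
      exact (modByMonic_eq_zero_iff_dvd (hmonic.map _)).2 hdvd
    obtain ⟨h, hh⟩ := hCdvd _ hr
    refine ⟨h, ?_, ⟨h, hh⟩⟩
    conv_lhs => rw [← modByMonic_add_div g f]
    rw [map_add, map_mul _ f, hfx, zero_mul, add_zero, hh, map_mul, aeval_C]
    rfl
  · right
    obtain ⟨a, b, hab⟩ := hirr.coprime_iff_not_dvd.2 hdvd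
    obtain ⟨a, rfl⟩ := map_surjective (residue S) residue_surjective a
    obtain ⟨b, rfl⟩ := map_surjective (residue S) residue_surjective b
    obtain ⟨h, hh⟩ := hCdvd (a * f + b * g - 1) (by
      rw [Polynomial.map_sub, Polynomial.map_add, Polynomial.map_mul, Polynomial.map_mul,
        Polynomial.map_one, hab, sub_self])
    let S' := extend S x
    have : Algebra.IsIntegral R S' := by
      refine ⟨fun ξ => ?_⟩
      have hxint : IsIntegral R x := by
        refine IsIntegral.of_pow hp.out.pos ?_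
        rw [hx]
        exact (Algebra.IsIntegral.isIntegral y).map S.val
      obtain ⟨c, hc⟩ := exists_coeff_of_mem_extend hp.out.pos hx ξ.2
      refine (isIntegral_algHom_iff S'.val Subtype.val_injective).1 ?_
      change IsIntegral R (ξ : L)
      rw [hc]
      exact IsIntegral.sum _ fun i _ =>
        ((Algebra.IsIntegral.isIntegral (c i)).map S.val).mul (hxint.pow _)
    have := Groth.EtaleAlgebra.isLocalRing_of_isIntegral_domain R S'
    have := Groth.EtaleAlgebra.isLocalHom_of_isIntegral R S'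
    have hπ' : algebraMap R S' ϖ ∈ maximalIdeal S' :=
      fun hu => hϖ.not_isUnit (isUnit_of_map_unit _ _ hu)
    let ev : S[X] → S' := fun e => ⟨aeval x e, aeval_mem_extend S x e⟩
    have heq : ev b * ev g = 1 + algebraMap R S' ϖ * ev h := by
      refine Subtype.ext ?_
      change aeval x b * aeval x g = 1 + algebraMap R L ϖ * aeval x h
      have := congrArg (aeval x) hh
      rw [map_sub, map_add, map_mul, map_mul, map_one, hfx, mul_zero, zero_add, map_mul, aeval_C,
        sub_eq_iff_eq_add'] at this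
      exact this
    have hu : IsUnit (ev b * ev g) := by
      rw [heq]
      by_contra hn
      refine (maximalIdeal.isMaximal S').ne_top ((Ideal.eq_top_iff_one _).2 ?_)
      have h1 := (maximalIdeal S').sub_mem ((mem_maximalIdeal _).2 hn)
        ((maximalIdeal S').mul_mem_right (ev h) hπ')
      rwa [add_sub_cancel_right] at h1
    exact isUnit_of_mul_isUnit_right hu

theorem linearIndependent_pow (hS : Good R L q ϖ S) (hϖ : Irreducible ϖ) [hp : Fact p.Prime]
    (hy : ∀ z : S, ¬ algebraMap R S ϖ ∣ z ^ p - y) (hx : x ^ p = y) (c : Fin p → S)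
    (hc : ∑ i, (c i : L) * x ^ (i : ℕ) = 0) : c = 0 := by
  classical
  by_contra hne
  set π := algebraMap R S ϖ with hπ
  have hπ0 : π ≠ 0 := fun h => hS.not_isUnit hϖ (by
    have : ϖ = 0 := FaithfulSMul.algebraMap_injective R S (h.trans (map_zero _).symm)
    exact absurd this hϖ.ne_zero)
  choose n v hnv using fun i : {i // c i ≠ 0} => hS.eq_pow_mul hϖ i.2
  obtain ⟨i₀, hi₀⟩ := Function.ne_iff.1 hne
  haveI : Nonempty {i // c i ≠ 0} := ⟨⟨i₀, hi₀⟩⟩
  obtain ⟨j, hj⟩ := Finite.exists_min n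
  let c' : Fin p → S := fun i => if h : c i ≠ 0 then π ^ (n ⟨i, h⟩ - n j) * v ⟨i, h⟩ else 0
  have hcc' : ∀ i, c i = π ^ n j * c' i := fun i => by
    by_cases h : c i ≠ 0
    · simp only [c', dif_pos h]
      rw [← mul_assoc, ← pow_add, Nat.add_sub_cancel' (hj ⟨i, h⟩), ← hnv ⟨i, h⟩]
    · simp only [c', dif_neg h, mul_zero]
      exact not_not.1 h
  let g : S[X] := ∑ i : Fin p, monomial (i : ℕ) (c' i)
  have hg : aeval x g = 0 := by
    have h1 : ((π ^ n j : S) : L) * aeval x g = 0 := by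
      rw [← hc]
      simp only [g, map_sum, aeval_monomial, Finset.mul_sum, ← mul_assoc]
      refine Finset.sum_congr rfl fun i _ => ?_
      congr 1
      exact (congrArg Subtype.val (hcc' i)).symm
    refine (mul_eq_zero.1 h1).resolve_left fun h0 => pow_ne_zero (n j) hπ0 (Subtype.ext h0)
  have hcoef : g.coeff (j.1 : ℕ) = (v j : S) := by
    simp only [g, finsetSum_coeff, coeff_monomial]
    rw [Finset.sum_eq_single j.1 (fun i _ hi => if_neg fun h => hi (Fin.ext h))
      (fun h => absurd (Finset.mem_univ _) h), if_pos rfl]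
    simp only [c', dif_pos j.2, Nat.sub_self, pow_zero, one_mul]
  rcases isUnit_or_dvd hS hϖ hy hx g with ⟨h, -, hdvd⟩ | hu
  · have hgdeg : g %ₘ (X ^ p - C y) = g := by
      refine (modByMonic_eq_self_iff (monic_X_pow_sub_C y hp.out.ne_zero)).2 ?_
      rw [degree_X_pow_sub_C hp.out.pos]
      refine (degree_sum_le _ _).trans_lt ((Finset.sup_lt_iff (WithBot.bot_lt_coe p)).2 fun i _ => ?_)
      exact (degree_monomial_le _ _).trans_lt (WithBot.coe_lt_coe.2 i.2)
    rw [hgdeg, C_dvd_iff_dvd_coeff] at hdvd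
    have := hdvd j.1
    rw [hcoef] at this
    exact hS.not_isUnit hϖ (isUnit_of_dvd_unit this (v j).isUnit)
  · exact not_isUnit_zero (by
      have h0 : (⟨aeval x g, aeval_mem_extend S x g⟩ : extend S x) = 0 := Subtype.ext hg
      rwa [h0] at hu)

theorem good_extend (hS : Good R L p ϖ S) (hϖ : Irreducible ϖ) [hp : Fact p.Prime]
    (hpR : ϖ ∣ (p : R))
    (hy : ∀ z : S, ¬ algebraMap R S ϖ ∣ z ^ p - y) (hx : x ^ p = y) :
    Good R L p ϖ (extend S x) := by
  classical
  set S' := extend S x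
  refine ⟨fun s hs => ?_, fun ξ hξ => ?_, fun ξ => ?_⟩
  · choose c hc using fun t : s => exists_coeff_of_mem_extend hp.out.pos hx (hs t.2)
    let s₀ : Finset L := insert (y : L)
      ((Finset.univ : Finset (s × Fin p)).image fun ti => (c ti.1 ti.2 : L))
    have hs₀ : (s₀ : Set L) ⊆ S := by
      intro a ha
      simp only [s₀, Finset.coe_insert, Finset.coe_image, Set.mem_insert_iff, Set.mem_image] at ha
      rcases ha with rfl | ⟨ti, -, rfl⟩
      · exact y.2
      · exact (c ti.1 ti.2).2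
    obtain ⟨T, hTS, hsT, hfin, hfree, m, hm⟩ := hS.finite s₀ hs₀
    have hyT : (y : L) ∈ T := hsT (Finset.mem_insert_self _ _)
    let φ : (Fin p → T) →ₗ[R] L :=
      { toFun := fun b => ∑ i, (b i : L) * x ^ (i : ℕ)
        map_add' := fun b b' => by simp [add_mul, Finset.sum_add_distrib]
        map_smul' := fun r b => by
          simp only [Pi.smul_apply, Subalgebra.coe_smul, RingHom.id_apply, Finset.smul_sum,
            Algebra.smul_mul_assoc] }
    have hφ : Function.Injective φ := by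
      rw [injective_iff_map_eq_zero]
      intro b hb
      have := linearIndependent_pow hS hϖ hy hx (fun i => ⟨b i, hTS (b i).2⟩) hb
      funext i
      exact Subtype.ext (congrArg (fun z : S => (z : L)) (congrFun this i))
    have hrange : LinearMap.range φ = (extend T x).toSubmodule := by
      refine le_antisymm ?_ fun ξ hξ => ?_
      · rintro _ ⟨b, rfl⟩
        change ∑ i, (b i : L) * x ^ (i : ℕ) ∈ extend T x
        exact Subalgebra.sum_mem _ fun i _ =>
          Subalgebra.mul_mem _ (le_extend T x (b i).2) (Subalgebra.pow_mem _ (self_mem_extend T x) _)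
      · obtain ⟨b, hb⟩ := exists_coeff_of_mem_extend (U := T) (y := (⟨(y : L), hyT⟩ : T)) hp.out.pos hx hξ
        exact ⟨b, hb.symm⟩
    let eT : (Fin p → T) ≃ₗ[R] extend T x :=
      (LinearEquiv.ofInjective φ hφ).trans (LinearEquiv.ofEq _ _ hrange)
    refine ⟨extend T x, fun ξ hξ => ?_, fun t ht => ?_, Module.Finite.equiv eT,
      Module.Free.of_equiv eT, m + 1, ?_⟩
    · obtain ⟨b, rfl⟩ := exists_coeff_of_mem_extend (U := T) (y := (⟨(y : L), hyT⟩ : T)) hp.out.pos hx hξ
      exact Subalgebra.sum_mem _ fun i _ => Subalgebra.mul_mem _ (le_extend S x (hTS (b i).2))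
        (Subalgebra.pow_mem _ (self_mem_extend S x) _)
    · change t ∈ extend T x
      rw [show t = _ from hc ⟨t, ht⟩]
      exact Subalgebra.sum_mem _ fun i _ => Subalgebra.mul_mem _
        (le_extend T x (hsT (Finset.mem_insert_of_mem
          (Finset.mem_image.2 ⟨(⟨t, ht⟩, i), Finset.mem_univ _, rfl⟩))))
        (Subalgebra.pow_mem _ (self_mem_extend T x) _)
    · rw [← eT.finrank_eq, Module.finrank_pi_fintype]
      simp [hm, pow_succ, mul_comm]
  · obtain ⟨g, hg⟩ := exists_poly_of_mem_extend ξ.2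
    rcases isUnit_or_dvd hS hϖ hy hx g with ⟨h, hh, -⟩ | hu
    · exact ⟨⟨_, aeval_mem_extend S x h⟩, Subtype.ext (hg.symm.trans hh)⟩
    · exact absurd (by
        have : ξ = ⟨aeval x g, aeval_mem_extend S x g⟩ := Subtype.ext hg.symm
        rwa [this]) hξ
  · obtain ⟨c, hc⟩ := exists_coeff_of_mem_extend hp.out.pos hx ξ.2
    let c₀ : S := ∑ i, c i ^ p * y ^ (i : ℕ)
    let ι : S →ₐ[R] S' := Subalgebra.inclusion (le_extend S x)
    let x' : S' := ⟨x, self_mem_extend S x⟩
    have hξ : ξ = ∑ i, ι (c i) * x' ^ (i : ℕ) := by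
      refine Subtype.ext ?_
      rw [hc]
      simp [ι, x', Subalgebra.inclusion]
    obtain ⟨m, z, hz⟩ := hS.radicial c₀
    refine ⟨m + 1, z, ?_⟩
    set J : Ideal S' := Ideal.span {algebraMap R S' ϖ}
    rw [← Ideal.mem_span_singleton, ← Ideal.Quotient.mk_eq_mk_iff_sub_mem]
    have h1 : Ideal.Quotient.mk J (algebraMap R S' z) = Ideal.Quotient.mk J (ι c₀) ^ p ^ m := by
      rw [← map_pow, Ideal.Quotient.mk_eq_mk_iff_sub_mem, Ideal.mem_span_singleton]
      have := map_dvd ι hz
      rwa [map_sub, map_pow, AlgHom.commutes, AlgHom.commutes] at this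
    have hpow : x' ^ p = ι y := Subtype.ext hx
    by_cases htriv : Subsingleton (S' ⧸ J)
    · exact Subsingleton.elim _ _
    rw [not_subsingleton_iff_nontrivial] at htriv
    have hchar : CharP (S' ⧸ J) p := by
      refine (CharP.charP_iff_prime_eq_zero hp.out).2 ?_
      rw [← map_natCast (Ideal.Quotient.mk J), Ideal.Quotient.eq_zero_iff_mem,
        Ideal.mem_span_singleton, ← map_natCast (algebraMap R S')]
      exact map_dvd _ hpR
    have h2 : Ideal.Quotient.mk J (ι c₀) = Ideal.Quotient.mk J ξ ^ p := by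
      simp only [hξ, c₀, map_sum]
      rw [sum_pow_char p]
      simp only [map_mul, map_pow, mul_pow, ← hpow, ← pow_mul]
      exact Finset.sum_congr rfl fun i _ => by rw [mul_comm p (i : ℕ)]
    rw [h1, h2, map_pow, ← pow_mul, pow_succ']

end Step

variable (L) in
/-- A maximal good subalgebra. -/
theorem exists_maximal_good (hdiv : ∀ a : R, ¬ IsUnit a → ϖ ∣ a) :
    ∃ S : Subalgebra R L, Maximal (Good R L q ϖ) S := by
  obtain ⟨S, -, hS⟩ := zorn_le_nonempty₀ {S | Good R L q ϖ S} (fun 𝒞 h𝒞 hch S hS => by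
    obtain ⟨U, hU, hle⟩ := good_sSup ⟨S, hS⟩ hch h𝒞
    exact ⟨U, hU, hle⟩) ⊥ (good_bot.2 hdiv)
  exact ⟨S, hS⟩

/-- A maximal good subalgebra has perfect residue field. -/
theorem exists_pow_of_maximal [IsAlgClosed L] (hϖ : Irreducible ϖ) {p : ℕ} [hp : Fact p.Prime]
    (hpR : ϖ ∣ (p : R)) {S : Subalgebra R L} (hS : Maximal (Good R L p ϖ) S) (y : S) :
    ∃ z : S, algebraMap R S ϖ ∣ z ^ p - y := by
  by_contra hy
  push Not at hy
  obtain ⟨x, hx⟩ := IsAlgClosed.exists_pow_nat_eq (y : L) hp.out.pos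
  have hle := hS.2 (good_extend hS.1 hϖ hpR hy hx) (le_extend S x)
  exact hy ⟨x, hle (self_mem_extend S x)⟩ (by
    rw [show (⟨x, hle (self_mem_extend S x)⟩ : S) ^ p = y from Subtype.ext hx, sub_self]
    exact dvd_zero _)

end Groth.PerfDVR
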